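import Groth.Agent.DeltaBCLib.CurvePoint
import Groth.Agent.DeltaBCLib.Count
import Groth.Agent.DeltaBCLib.Stalk
import Groth.Agent.NodalLib.Node
import Groth.Agent.S7657
import Groth.Agent.NormUPLib.Char
import Groth.Agent.RegLocal.UFD
import Groth.Agent.ASp.GeomRedEt
import Groth.Agent.EtClosedPts.Generic
import Groth.Agent.ASp.LiftDim

/-!
# Normalization of nodal curves
-/

set_option autoImplicit false
set_option linter.style.haveILetI false
set_option backward.isDefEq.respectTransparency false

universe u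

open CategoryTheory CategoryTheory.Limits AlgebraicGeometry TopologicalSpace IsLocalRing
open Groth.Agent.DeltaBC

noncomputable section

namespace Groth.Agent.NormNodeLib

variable (k : Type u) [Field k] [IsAlgClosed k] {X : Scheme.{u}} [X.Over (Spec (CommRingCat.of k))]
  [LocallyOfFiniteType (X ↘ Spec (CommRingCat.of k))] [IsReduced X]
  (hequi : ∀ Z ∈ irreducibleComponents (X : Type u), topologicalKrullDim Z = 1)

theorem axes_span_two (K : Type u) [Field K] : Ideal.span {f : MvPowerSeries (Fin 2) K |
    ∃ i j : Fin 2, i ≠ j ∧ f = MvPowerSeries.X i * MvPowerSeries.X j} =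
      Ideal.span {(MvPowerSeries.X 0 * MvPowerSeries.X 1 : MvPowerSeries (Fin 2) K)} := by
  congr 1
  refine Set.ext fun f => ⟨?_, fun h => ⟨0, 1, by decide, h⟩⟩
  rintro ⟨i, j, hij, rfl⟩
  fin_cases i <;> fin_cases j <;> first | exact absurd rfl hij | rfl | exact mul_comm _ _

include hequi in
/-- A node has two branches. -/
theorem numBranchesAt_node {x : X} (hn : Curv2.IsNode k X x) : Brnch.numBranchesAt X x = 2 := by
  obtain ⟨hx, z, rfl, h⟩ := hn
  let K := AlgebraicClosure k
  haveI : IsIso (CommRingCat.ofHom (algebraMap k K)) :=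
    (RingEquiv.ofBijective (algebraMap k K) (IsAlgClosed.algebraMap_bijective_of_isIntegral (k := k))).toCommRingCatIso.isIso_hom
  let π := Curv2.bcFst k X K
  haveI : IsIso π := inferInstanceAs (IsIso (pullback.fst _ _))
  letI : (Curv2.bc k X K).Over (Spec (CommRingCat.of K)) := ⟨Curv2.bcSnd k X K⟩
  letI := Curv2.stalkAlgebra K (Curv2.bc k X K) z
  haveI := LocallyOfFiniteType.isLocallyNoetherian (X ↘ Spec (CommRingCat.of k))
  haveI : IsLocallyNoetherian (Curv2.bc k X K) := LocallyOfFiniteType.isLocallyNoetherian π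
  let φ : X.presheaf.stalk (π z) →+* (Curv2.bc k X K).presheaf.stalk z := (π.stalkMap z).hom
  have hb : Function.Bijective φ := ConcreteCategory.bijective_of_isIso (π.stalkMap z)
  let E := RingEquiv.ofBijective φ hb
  letI : Algebra K (X.presheaf.stalk (π z)) :=
    (E.symm.toRingHom.comp (algebraMap K ((Curv2.bc k X K).presheaf.stalk z))).toAlgebra
  haveI : IsLocalHom φ := π.toLRSHom.prop z
  have hm : (maximalIdeal (X.presheaf.stalk (π z))).map φ = maximalIdeal ((Curv2.bc k X K).presheaf.stalk z) := by
    rw [← IsLocalRing.maximalIdeal_comap φ, Ideal.map_comap_of_surjective φ hb.2]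
  have hres : Function.Surjective (ResidueField.map φ) := fun c => by
    obtain ⟨b, rfl⟩ := residue_surjective c
    obtain ⟨a, rfl⟩ := hb.2 b
    exact ⟨residue _ a, ResidueField.map_residue φ a⟩
  obtain ⟨e, -⟩ := (NodalLib.isOrdDoublePt_iff φ (Flat.stalkMap π z) hm ⟨RingHom.injective _, hres⟩
    (RingHom.ext fun c => E.apply_symm_apply _)).2 h
  let e2 : AdicCompletion (maximalIdeal (X.presheaf.stalk (π z))) (X.presheaf.stalk (π z)) ≃+*
      (MvPowerSeries (Fin 2) K ⧸ Ideal.span {f : MvPowerSeries (Fin 2) K |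
        ∃ i j : Fin 2, i ≠ j ∧ f = MvPowerSeries.X i * MvPowerSeries.X j}) :=
    e.trans (Ideal.quotEquivOfEq (axes_span_two K).symm)
  obtain ⟨ψ, hψ, hr⟩ := exists_phi_of_axes _ 2 (by norm_num) e2
  exact (invariants_of_completion (X.presheaf.stalk (π z)) (isNagata_stalk k X (π z)) (dim_stalk_eq_one hequi hx) 2 ψ hψ hr).1

end Groth.Agent.NormNodeLib

namespace Groth.Agent.NormNodeLib

variable (k : Type u) [Field k] [IsAlgClosed k] {X : Scheme.{u}} [X.Over (Spec (CommRingCat.of k))]
  [LocallyOfFiniteType (X ↘ Spec (CommRingCat.of k))] [IsIntegral X]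
  [QuasiCompact (X.fromSpecStalk (genericPoint X))] [QuasiSeparated (X.fromSpecStalk (genericPoint X))]

/-- Two points of the normalization lie over a node. -/
theorem card_fibre_node (hdim : topologicalKrullDim X = 1) {x : X} (hn : Curv2.IsNode k X x) :
    Nat.card {y : Curv2.normalization X // Curv2.normalizationι X y = x} = 2 := by
  have hequi : ∀ Z ∈ irreducibleComponents (X : Type u), topologicalKrullDim Z = 1 := fun Z hZ => by
    rw [irreducibleComponents_eq_singleton, Set.mem_singleton_iff] at hZ
    rw [hZ, ← hdim]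
    exact (Homeomorph.Set.univ X).isHomeomorph.topologicalKrullDim_eq
  have h := (S7657.result X x).1
  rw [numBranchesAt_node k hequi hn] at h
  rw [Nat.card, ENat.card] at *
  rw [← Cardinal.toNat_toENat, ← h]
  rfl

/-- The normalization is an isomorphism away from the nodes. -/
theorem exists_isIso_restrict (hdim : topologicalKrullDim X = 1) (hnodal : Curv2.AtWorstNodal k X) (x : X)
    (hx : IsClosed ({x} : Set X)) (huniq : ∀ z : X, Curv2.IsNode k X z → z = x) (y : X) (hy : y ≠ x) :
    ∃ U : X.Opens, y ∈ U ∧ IsIso (Curv2.normalizationι X ∣_ U) := by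
  obtain ⟨U, hU, hyU, hUx⟩ := exists_isAffineOpen_mem_and_subset (X := X) (x := y)
    (U := ⟨({x} : Set X)ᶜ, hx.isOpen_compl⟩) hy
  haveI : Nonempty U := ⟨⟨y, hyU⟩⟩
  refine ⟨U, hyU, NormUPLib.isIso_restrict_of_normal hU fun z hz => ?_⟩
  rcases EtClosedPts.isClosed_or_maximal hdim.le z with hc | hm
  · rcases hnodal z hc with ⟨V, hzV, hs⟩ | hnode
    · haveI := hs
      haveI := ASp.isRegularLocalRing_stalk_of_smooth_field (V.ι ≫ (X ↘ Spec (CommRingCat.of k))) ⟨z, hzV⟩
      haveI : IsRegularLocalRing (X.presheaf.stalk z) :=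
        IsRegularLocalRing.of_ringEquiv (asIso (V.ι.stalkMap ⟨z, hzV⟩)).commRingCatIsoToRingEquiv.symm
      haveI : UniqueFactorizationMonoid (X.presheaf.stalk z) := RegLocal.ufd _
      infer_instance
    · exact absurd (huniq z hnode) (hUx hz)
  · obtain rfl : genericPoint X = z := hm _ (genericPoint_specializes z)
    letI : Field (X.presheaf.stalk (genericPoint X)) := inferInstanceAs (Field X.functionField)
    infer_instance

end Groth.Agent.NormNodeLib
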