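import Groth.Agent.NormCohLib.Basic
import Groth.Agent.EtTraceLib.ConstSect
import Groth.Agent.EtPtsLib.UnitMono

/-!
# First cohomology along a finite map which folds two points of a curve
-/

set_option autoImplicit false
set_option linter.style.haveILetI false
set_option linter.unusedSectionVars false
set_option backward.isDefEq.respectTransparency false
set_option backward.isDefEq.respectTransparency.types false
set_option maxHeartbeats 1000000
set_option synthInstance.maxHeartbeats 400000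

universe u

open CategoryTheory CategoryTheory.Limits AlgebraicGeometry Opposite CategoryTheory.Abelian
open Groth.Agent.EtPtsLib

attribute [local instance] Groth.Agent.S0101.result

noncomputable section

namespace Groth.Agent.NormNodeLib

/-- Sections of a constant sheaf on a finite discrete scheme. -/
theorem card_H0_const_discrete (X : Scheme.{u}) [Finite X] [DiscreteTopology X] (M : Type) [AddCommGroup M] :
    Nat.card (EtCoh.H X (EtCoh.const X M) 0) = Nat.card M ^ Nat.card X := by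
  let E := ((Sheaf.H.equiv₀ (EtCoh.const X M) (EtCore.topIsTerminal X)).trans
      (EtTraceLib.constEquiv (AddCommGrpCat.of (ULift.{u + 1} M)) (EtCoh.top X))).toEquiv
  let E₂ : LocallyConstant X (ULift.{u + 1} M) ≃ (X → ULift.{u + 1} M) :=
    { toFun := fun g => g
      invFun := fun g => ⟨g, IsLocallyConstant.of_discrete g⟩
      left_inv := fun _ => rfl
      right_inv := fun _ => rfl }
  rw [Nat.card_congr (E.trans E₂), Nat.card_fun, Nat.card_congr Equiv.ulift]

/-- Sections of a constant sheaf on a connected scheme. -/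
theorem card_H0_const_connected (X : Scheme.{u}) [ConnectedSpace X] (M : Type) [AddCommGroup M] :
    Nat.card (EtCoh.H X (EtCoh.const X M) 0) = Nat.card M := by
  let E := ((Sheaf.H.equiv₀ (EtCoh.const X M) (EtCore.topIsTerminal X)).trans
      (EtTraceLib.constEquiv (AddCommGrpCat.of (ULift.{u + 1} M)) (EtCoh.top X))).toEquiv
  obtain ⟨z⟩ := (inferInstance : Nonempty X)
  let E₂ : LocallyConstant X (ULift.{u + 1} M) ≃ M :=
    { toFun := fun g => (g z).down
      invFun := fun c => LocallyConstant.const _ ⟨c⟩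
      left_inv := fun g => LocallyConstant.ext fun y => g.2.apply_eq_of_isPreconnected isPreconnected_univ trivial trivial
      right_inv := fun _ => rfl }
  exact Nat.card_congr (E.trans E₂)

/-- Postcomposition. -/
def post {X : Scheme.{u}} {A B : EtCoh.Ab X} (a : A ⟶ B) (q : ℕ) : EtCoh.H X A q →+ EtCoh.H X B q :=
  AddMonoidHom.mk' (fun e => e.comp (Ext.mk₀ a) (add_zero q)) fun _ _ => Ext.add_comp _ _ _ _

theorem card_iso {X : Scheme.{u}} {A B : EtCoh.Ab X} (e : A ≅ B) (q : ℕ) :
    Nat.card (EtCoh.H X A q) = Nat.card (EtCoh.H X B q) :=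
  Nat.card_congr ((EtCoh.HF X q).mapIso e).addCommGroupIsoToAddEquiv.toEquiv

theorem card_middle {X : Scheme.{u}} {S : ShortComplex (EtCoh.Ab X)} (hS : S.ShortExact)
    (h : Subsingleton (EtCoh.H X S.X₁ 1)) :
    Nat.card (EtCoh.H X S.X₂ 0) = Nat.card (EtCoh.H X S.X₁ 0) * Nat.card (EtCoh.H X S.X₃ 0) := by
  haveI := hS.mono_f
  have hg : Function.Surjective (post S.g 0) := fun c =>
    Ext.covariant_sequence_exact₃ _ hS c rfl (h.elim _ _)
  have hf : Function.Injective (post S.f 0) := (injective_iff_map_eq_zero _).2 fun x hx => by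
    obtain ⟨a, rfl⟩ := (Ext.mk₀_bijective _ _).2 x
    have h0 : a ≫ S.f = 0 := by
      apply (Ext.mk₀_bijective _ _).1
      rw [Ext.mk₀_zero, ← Ext.mk₀_comp_mk₀]
      exact hx
    rw [(cancel_mono S.f).1 (h0.trans zero_comp.symm), Ext.mk₀_zero]
  have hk : (post S.g 0).ker = (post S.f 0).range := AddSubgroup.ext fun b => by
    refine AddMonoidHom.mem_ker.trans ⟨fun hb => ?_, ?_⟩
    · exact Ext.covariant_sequence_exact₂ _ hS b hb
    · rintro ⟨a, rfl⟩
      show (a.comp (Ext.mk₀ S.f) (add_zero 0)).comp (Ext.mk₀ S.g) (add_zero 0) = 0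
      rw [Ext.comp_assoc_of_second_deg_zero, Ext.mk₀_comp_mk₀, S.zero, Ext.mk₀_zero, Ext.comp_zero]
  rw [AddSubgroup.card_eq_card_quotient_mul_card_addSubgroup (post S.g 0).ker,
    Nat.card_congr (QuotientAddGroup.quotientKerEquivOfSurjective _ hg).toEquiv, hk,
    ← Nat.card_congr (AddMonoidHom.ofInjective hf).toEquiv, mul_comm]

theorem kernel_count {X : Scheme.{u}} {S : ShortComplex (EtCoh.Ab X)} (hS : S.ShortExact) {a : ℕ} (ha : 0 < a)
    (h1 : Nat.card (EtCoh.H X S.X₁ 0) = a) (h2 : Nat.card (EtCoh.H X S.X₂ 0) = a)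
    (h3 : Subsingleton (EtCoh.H X S.X₃ 1)) :
    Function.Surjective (post S.f 1) ∧ Nat.card (post S.f 1).ker = Nat.card (EtCoh.H X S.X₃ 0) := by
  haveI := hS.mono_f
  refine ⟨fun c => Ext.covariant_sequence_exact₂ _ hS c (h3.elim _ _), ?_⟩
  haveI : Finite (EtCoh.H X S.X₁ 0) := Nat.finite_of_card_ne_zero (by omega)
  haveI : Finite (EtCoh.H X S.X₂ 0) := Nat.finite_of_card_ne_zero (by omega)
  have hf : Function.Injective (post S.f 0) := (injective_iff_map_eq_zero _).2 fun x hx => by
    obtain ⟨a, rfl⟩ := (Ext.mk₀_bijective _ _).2 x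
    have h0 : a ≫ S.f = 0 := by
      apply (Ext.mk₀_bijective _ _).1
      rw [Ext.mk₀_zero, ← Ext.mk₀_comp_mk₀]
      exact hx
    rw [(cancel_mono S.f).1 (h0.trans zero_comp.symm), Ext.mk₀_zero]
  have hfb : Function.Bijective (post S.f 0) :=
    (Nat.bijective_iff_injective_and_card _).2 ⟨hf, h1.trans h2.symm⟩
  let δ : EtCoh.H X S.X₃ 0 →+ EtCoh.H X S.X₁ 1 :=
    AddMonoidHom.mk' (fun x => x.comp hS.extClass (zero_add 1)) fun _ _ => Ext.add_comp _ _ _ _
  have hδ : Function.Injective δ := (injective_iff_map_eq_zero _).2 fun c hc => by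
    obtain ⟨b, rfl⟩ := Ext.covariant_sequence_exact₃ _ hS c rfl hc
    obtain ⟨a, rfl⟩ := hfb.2 b
    show (a.comp (Ext.mk₀ S.f) (add_zero 0)).comp (Ext.mk₀ S.g) (add_zero 0) = 0
    rw [Ext.comp_assoc_of_second_deg_zero, Ext.mk₀_comp_mk₀, S.zero, Ext.mk₀_zero, Ext.comp_zero]
  have hk : (post S.f 1).ker = δ.range := AddSubgroup.ext fun b => by
    refine AddMonoidHom.mem_ker.trans ⟨fun hb => Ext.covariant_sequence_exact₁ _ hS b hb rfl, ?_⟩
    rintro ⟨c, rfl⟩
    show (c.comp hS.extClass (zero_add 1)).comp (Ext.mk₀ S.f) (add_zero 1) = 0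
    rw [Ext.comp_assoc_of_third_deg_zero, ShortComplex.ShortExact.extClass_comp, Ext.comp_zero]
  rw [hk, ← Nat.card_congr (AddMonoidHom.ofInjective hδ).toEquiv]

variable {k : Type u} [Field k] [IsAlgClosed k] {X Y : Scheme.{u}} (f : X ⟶ Spec (CommRingCat.of k))
  [LocallyOfFiniteType f]

include f in
/-- Folding two points of a connected curve. -/
theorem surjective_and_card_ker [ConnectedSpace X] [ConnectedSpace Y] (ν : Y ⟶ X) [IsFinite ν] [Surjective ν]
    [PreservesFiniteLimits (EtCoh.pull ν)] (x : X) (hx : IsClosed ({x} : Set X))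
    (hiso : ∀ y : X, y ≠ x → ∃ U : X.Opens, y ∈ U ∧ IsIso (ν ∣_ U))
    (hfib : Nat.card {y : Y // ν y = x} = 2) {n : ℕ} (hn : 0 < n) (μ : EtCoh.Ab X)
    (e : μ ≅ EtCoh.const X (ZMod n)) :
    Function.Surjective (EtCore.Hpull ν μ 1) ∧ Nat.card (EtCore.Hpull ν μ 1).ker = n := by
  haveI : NeZero n := ⟨hn.ne'⟩
  let η := (EtCoh.pullPushAdj ν).unit.app μ
  haveI : Mono η := EtPtsLib.mono_unit_of_surjective ν μ
  let S := ShortComplex.mk η (cokernel.π η) (cokernel.condition η)
  have hS : S.ShortExact := { exact := ShortComplex.exact_cokernel η }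
  have hsupp : EtPBC.supp (cokernel η) ⊆ {x} := by
    rintro y ⟨Ω, _, _, ξ, hξ, hne⟩
    by_contra hy
    obtain ⟨U, hyU, hU⟩ := hiso y hy
    refine hne ?_
    haveI := hU
    have hd : ξ default = y := by
      have : ξ default ∈ ({y} : Set X) := hξ ▸ Set.mem_range_self _
      exact this
    exact (EtClosedPts.isZero_stalk_kernel_cokernel η ξ
      (NormCohLib.isIso_stalk_unit_of_mem ν U μ ξ (by rw [hd]; exact hyU))).2
  have hC1 : Subsingleton (EtCoh.H X S.X₃ 1) :=
    ⟨fun a b => (EtClosedPts.H_eq_zero_of_supp f x hx hsupp 0 a).trans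
      (EtClosedPts.H_eq_zero_of_supp f x hx hsupp 0 b).symm⟩
  have h1 : Nat.card (EtCoh.H X S.X₁ 0) = n := by
    show Nat.card (EtCoh.H X μ 0) = n
    rw [card_iso e 0, card_H0_const_connected, Nat.card_zmod]
  have h2 : Nat.card (EtCoh.H X S.X₂ 0) = n := by
    obtain ⟨ε⟩ := EtVanish.nonempty_H_push_equiv ν ((EtCoh.pull ν).obj μ) 0
    rw [show Nat.card (EtCoh.H X S.X₂ 0) = _ from Nat.card_congr ε.toEquiv,
      card_iso ((EtCoh.pull ν).mapIso e ≪≫ EtCore.pullConst ν (ZMod n)) 0, card_H0_const_connected, Nat.card_zmod]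
  obtain ⟨hsur, hker⟩ := kernel_count hS hn h1 h2 hC1
  -- the stalk of the cokernel at the point
  haveI : IsSepClosed (X.residueField x) := EtClosedPts.isSepClosed_residueField f x hx
  haveI : IsClosedImmersion (X.fromSpecResidueField x) := isClosed_singleton_iff_isClosedImmersion.1 hx
  let i := X.fromSpecResidueField x
  haveI := EtClosedPts.isIso_unit_of_supp (F := cokernel η) x hx hsupp
  have hC0 : Nat.card (EtCoh.H X S.X₃ 0) =
      Nat.card (EtCoh.H (Spec (X.residueField x)) ((EtCoh.pull i).obj S.X₃) 0) := by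
    obtain ⟨ε⟩ := EtVanish.nonempty_H_push_equiv i ((EtCoh.pull i).obj S.X₃) 0
    exact (card_iso (asIso ((EtCoh.pullPushAdj i).unit.app (cokernel η))) 0).trans (Nat.card_congr ε.toEquiv)
  haveI : (EtCoh.pull i).Additive := (EtCoh.pullPushAdj i).left_adjoint_additive
  haveI : PreservesColimitsOfSize.{0, 0} (EtCoh.pull i) := (EtCoh.pullPushAdj i).leftAdjoint_preservesColimits
  haveI : PreservesFiniteColimits (EtCoh.pull i) := PreservesColimitsOfSize.preservesFiniteColimits _
  have hiS : (S.map (EtCoh.pull i)).ShortExact := hS.map_of_exact (EtCoh.pull i)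
  have hmid := card_middle hiS ⟨fun a b => (EtClosedPts.H_eq_zero_of_sepClosed (X.residueField x) _ 0 a).trans
    (EtClosedPts.H_eq_zero_of_sepClosed (X.residueField x) _ 0 b).symm⟩
  have hi1 : Nat.card (EtCoh.H (Spec (X.residueField x)) ((EtCoh.pull i).obj μ) 0) = n := by
    haveI : ConnectedSpace ↥(Spec (X.residueField x)) :=
      inferInstanceAs (ConnectedSpace (PrimeSpectrum (X.residueField x)))
    rw [card_iso ((EtCoh.pull i).mapIso e ≪≫ EtCore.pullConst i (ZMod n)) 0, card_H0_const_connected, Nat.card_zmod]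
  have hi2 : Nat.card (EtCoh.H (Spec (X.residueField x)) ((EtCoh.pull i).obj ((EtCoh.push ν).obj
      ((EtCoh.pull ν).obj μ))) 0) = n ^ 2 := by
    have hp := IsPullback.of_hasPullback ν i
    haveI := EtPtsLib.isIso_baseChange0 ν i (pullback.snd ν i) (pullback.fst ν i) hp ((EtCoh.pull ν).obj μ)
    obtain ⟨ε⟩ := EtVanish.nonempty_H_push_equiv (pullback.snd ν i)
      ((EtCoh.pull (pullback.fst ν i)).obj ((EtCoh.pull ν).obj μ)) 0
    rw [card_iso (asIso (EtCoh.baseChange0 ν i (pullback.snd ν i) (pullback.fst ν i) hp.w ((EtCoh.pull ν).obj μ))) 0,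
      Nat.card_congr ε.toEquiv,
      card_iso ((EtCoh.pull (pullback.fst ν i)).mapIso ((EtCoh.pull ν).mapIso e ≪≫ EtCore.pullConst ν (ZMod n)) ≪≫
        EtCore.pullConst (pullback.fst ν i) (ZMod n)) 0]
    haveI : Finite {y : Y // ν y = x} := Nat.finite_of_card_ne_zero (by omega)
    have hcard : Nat.card ↥(ν.fiber x) = 2 := (Nat.card_congr (ν.fiberHomeo x).toEquiv).trans hfib
    haveI : Finite ↥(pullback ν i) := Nat.finite_of_card_ne_zero (α := ↥(ν.fiber x)) (by omega)
    haveI : DiscreteTopology ↥(pullback ν i) := inferInstanceAs (DiscreteTopology ↥(ν.fiber x))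
    rw [card_H0_const_discrete, Nat.card_zmod]
    exact congrArg (n ^ ·) hcard
  have hc3 : Nat.card (EtCoh.H X S.X₃ 0) = n := by
    rw [hC0]
    have h := hi2.symm.trans (hmid.trans (congrArg₂ (· * ·) hi1 rfl))
    rw [sq] at h
    exact (Nat.eq_of_mul_eq_mul_left hn h).symm
  -- the pull back is the unit followed by a bijection
  have hb := (AcycCompLib.bijective_HofPush ν ((EtCoh.pull ν).obj μ) 1 1
    fun p hp _ => Groth.Agent.S3054.result ν _ p hp).1 le_rfl
  have e1 : ∀ z, EtCore.Hpull ν μ 1 z = EtLim.HofPush ν ((EtCoh.pull ν).obj μ) 1 (post η 1 z) := fun z =>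
    AcycCompLib.Hpull_eq_HofPush_unit ν 1 μ z
  refine ⟨fun c => ?_, ?_⟩
  · obtain ⟨b, rfl⟩ := hb.2 c
    obtain ⟨z, rfl⟩ := hsur b
    exact ⟨z, e1 z⟩
  · have hk : (EtCore.Hpull ν μ 1).ker = (post S.f 1).ker := AddSubgroup.ext fun z => by
      rw [AddMonoidHom.mem_ker, AddMonoidHom.mem_ker, e1, ← map_zero (EtLim.HofPush ν ((EtCoh.pull ν).obj μ) 1), hb.1.eq_iff]
      rfl
    exact (congrArg (fun H : AddSubgroup _ => Nat.card H) hk).trans (hker.trans hc3)

end Groth.Agent.NormNodeLib
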